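import Mathlib

set_option autoImplicit false
universe u

open MvPolynomial

namespace Groth.Agent.PinchJacLib

theorem jac_split (K : Type u) [Field K] [NeZero (2 : K)] (n : ℕ) :
    letI u : MvPolynomial (Fin (n + 3)) K := X 0
    letI v : MvPolynomial (Fin (n + 3)) K := X 1
    letI w : MvPolynomial (Fin (n + 3)) K := X 2
    letI Jac : Ideal (MvPolynomial (Fin (n + 3)) K) :=
      Ideal.span {u ^ 2 - v ^ 2 * w, 2 * u, -(2 * v * w), -(v ^ 2)}
    Ideal.span {u, v} = Jac ⊔ Ideal.span {v} ∧ Jac.colon (Ideal.span {v}) = Ideal.span {u, v, w} := by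
  show Ideal.span {X 0, X 1} = _ ∧ _
  set u : MvPolynomial (Fin (n + 3)) K := X 0 with hu
  set v : MvPolynomial (Fin (n + 3)) K := X 1 with hv
  set w : MvPolynomial (Fin (n + 3)) K := X 2 with hw
  have h2 : C (2⁻¹ : K) * (2 : MvPolynomial (Fin (n + 3)) K) = 1 := by
    rw [show (2 : MvPolynomial (Fin (n + 3)) K) = C (2 : K) from (map_ofNat C 2).symm, ← map_mul,
      inv_mul_cancel₀ (NeZero.ne 2), map_one]
  have hJ : Ideal.span {u ^ 2 - v ^ 2 * w, 2 * u, -(2 * v * w), -(v ^ 2)} = Ideal.span {u, v * w, v ^ 2} := by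
    apply le_antisymm
    · rw [Ideal.span_le]
      have hu' : u ∈ Ideal.span {u, v * w, v ^ 2} := Ideal.subset_span (by simp)
      have hvw : v * w ∈ Ideal.span {u, v * w, v ^ 2} := Ideal.subset_span (by simp)
      have hvv : v ^ 2 ∈ Ideal.span {u, v * w, v ^ 2} := Ideal.subset_span (by simp)
      rintro x (rfl | rfl | rfl | rfl)
      · exact Ideal.sub_mem _ (Ideal.pow_mem_of_mem _ hu' 2 two_pos) (Ideal.mul_mem_right _ _ hvv)
      · exact Ideal.mul_mem_left _ _ hu'
      · rw [SetLike.mem_coe, mul_assoc]; exact neg_mem (Ideal.mul_mem_left _ _ hvw)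
      · exact neg_mem hvv
    · rw [Ideal.span_le]
      set J := Ideal.span {u ^ 2 - v ^ 2 * w, 2 * u, -(2 * v * w), -(v ^ 2)}
      rintro x (rfl | rfl | rfl)
      · have h := J.mul_mem_left (C (2⁻¹ : K)) (Ideal.subset_span (by simp) : 2 * u ∈ J)
        rwa [← mul_assoc, h2, one_mul] at h
      · have h := J.mul_mem_left (-C (2⁻¹ : K)) (Ideal.subset_span (by simp) : -(2 * v * w) ∈ J)
        rwa [show -C (2⁻¹ : K) * -(2 * v * w) = C (2⁻¹ : K) * 2 * (v * w) by ring, h2, one_mul] at h
      · have h := J.neg_mem (Ideal.subset_span (by simp) : -(v ^ 2) ∈ J)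
        rwa [neg_neg] at h
  rw [hJ]
  refine ⟨?_, ?_⟩
  · rw [← Ideal.span_union]
    refine le_antisymm (Ideal.span_mono (by rintro x (rfl | rfl) <;> simp)) (Ideal.span_le.mpr ?_)
    have hu' : u ∈ Ideal.span {u, v} := Ideal.subset_span (by simp)
    have hv' : v ∈ Ideal.span {u, v} := Ideal.subset_span (by simp)
    rintro x ((rfl | rfl | rfl) | rfl)
    · exact hu'
    · exact Ideal.mul_mem_right _ _ hv'
    · exact Ideal.pow_mem_of_mem _ hv' 2 two_pos
    · exact hv'
  · ext f
    rw [Ideal.span, Submodule.colon_span, Submodule.mem_colon_singleton, smul_eq_mul]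
    constructor
    · intro hf
      change f * v ∈ Ideal.span {u, v * w, v ^ 2} at hf
      rw [Ideal.mem_span_insert] at hf
      obtain ⟨a, z, hz, he⟩ := hf
      obtain ⟨b, c, rfl⟩ := Ideal.mem_span_pair.mp hz
      have hp : Prime u := MvPolynomial.X_prime (i := (0 : Fin (n + 3)))
      have hdvd : u ∣ v * (f - b * w - c * v) := ⟨a, by linear_combination he⟩
      rcases hp.dvd_or_dvd hdvd with h | h
      · exfalso
        rw [hu, hv, MvPolynomial.X_dvd_X] at h
        simp at h
      · obtain ⟨t, ht⟩ := h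
        change f ∈ Ideal.span {u, v, w}
        rw [show f = t * u + (c * v + b * w) by linear_combination ht]
        exact Ideal.add_mem _ (Ideal.mul_mem_left _ _ (Ideal.subset_span (by simp)))
          (Ideal.add_mem _ (Ideal.mul_mem_left _ _ (Ideal.subset_span (by simp)))
            (Ideal.mul_mem_left _ _ (Ideal.subset_span (by simp))))
    · intro hf
      change f * v ∈ Ideal.span {u, v * w, v ^ 2}
      change f ∈ Ideal.span {u, v, w} at hf
      rw [Ideal.mem_span_insert] at hf
      obtain ⟨a, z, hz, rfl⟩ := hf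
      obtain ⟨b, c, rfl⟩ := Ideal.mem_span_pair.mp hz
      rw [show (a * u + (b * v + c * w)) * v = (a * v) * u + (b * v ^ 2 + c * (v * w)) by ring]
      exact Ideal.add_mem _ (Ideal.mul_mem_left _ _ (Ideal.subset_span (by simp)))
        (Ideal.add_mem _ (Ideal.mul_mem_left _ _ (Ideal.subset_span (by simp)))
          (Ideal.mul_mem_left _ _ (Ideal.subset_span (by simp))))

end Groth.Agent.PinchJacLib
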